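import Groth.Agent.H26CDiv.Depth
import Groth.Agent.H1CAlg.Serre
import Mathlib.AlgebraicGeometry.OrderOfVanishing
import Mathlib.RingTheory.DiscreteValuationRing.TFAE
import Mathlib.RingTheory.OrderOfVanishing.Noetherian
import Mathlib.RingTheory.Ideal.Height

/-! Primes of a local ring and generizations; regularity from orders. -/

set_option autoImplicit false

universe u

open CategoryTheory AlgebraicGeometry TopologicalSpace IsLocalRing

namespace Groth.Agent.H26CDiv

variable {X : Scheme.{u}} [IsIntegral X]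

/-- The map of local rings along a generization. -/
noncomputable abbrev spec {z x : X} (h : z ⤳ x) : X.presheaf.stalk x →+* X.presheaf.stalk z :=
  (X.presheaf.stalkSpecializes h).hom

theorem algebraMap_spec {z x : X} (h : z ⤳ x) (a : X.presheaf.stalk x) :
    algebraMap (X.presheaf.stalk z) X.functionField (spec h a) = algebraMap (X.presheaf.stalk x) X.functionField a :=
  congr($(X.presheaf.stalkSpecializes_comp ((genericPoint_spec X).specializes trivial) h) a)

theorem spec_germ {z x : X} (h : z ⤳ x) {W : X.Opens} (hx : x ∈ W) (s : Γ(X, W)) :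
    spec h (X.presheaf.germ W x hx s) = X.presheaf.germ W z (h.mem_open W.2 hx) s :=
  congr($(X.presheaf.germ_stalkSpecializes hx h) s)

theorem Reg.mul {x : X} {f g : X.functionField} (hf : Reg x f) (hg : Reg x g) : Reg x (f * g) := by
  obtain ⟨a, rfl⟩ := hf
  obtain ⟨b, rfl⟩ := hg
  exact ⟨a * b, map_mul _ _ _⟩

theorem Reg.of_specializes {z x : X} (h : z ⤳ x) {f : X.functionField} (hf : Reg x f) : Reg z f := by
  obtain ⟨a, rfl⟩ := hf
  exact ⟨spec h a, algebraMap_spec h a⟩

/-- The prime of `O_x` of a generization. -/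
noncomputable abbrev qOf {z x : X} (h : z ⤳ x) : Ideal (X.presheaf.stalk x) :=
  (maximalIdeal (X.presheaf.stalk z)).comap (spec h)

theorem mem_qOf_iff {z x : X} (h : z ⤳ x) (a : X.presheaf.stalk x) : a ∈ qOf h ↔ ¬ IsUnit (spec h a) := Iff.rfl

theorem exists_mul_spec {z x : X} (h : z ⤳ x) (c : X.presheaf.stalk z) :
    ∃ a s : X.presheaf.stalk x, s ∉ qOf h ∧ c * spec h s = spec h a := by
  obtain ⟨_, ⟨W, hW, rfl⟩, hxW, -⟩ := X.isBasis_affineOpens.exists_subset_of_mem_open (Set.mem_univ x) isOpen_univ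
  have hz : z ∈ W := h.mem_open W.2 hxW
  letI := TopCat.Presheaf.algebra_section_stalk X.presheaf (⟨z, hz⟩ : W)
  haveI := hW.isLocalization_stalk ⟨z, hz⟩
  obtain ⟨⟨c₀, d⟩, hcd⟩ := IsLocalization.surj (hW.primeIdealOf ⟨z, hz⟩).asIdeal.primeCompl c
  refine ⟨X.presheaf.germ W x hxW c₀, X.presheaf.germ W x hxW d.1, fun hd => ?_, ?_⟩
  · rw [mem_qOf_iff, spec_germ] at hd
    exact hd (IsLocalization.map_units (X.presheaf.stalk z) d)
  · rw [spec_germ, spec_germ]
    exact hcd

theorem height_qOf {z x : X} (h : z ⤳ x) : ((qOf h).height : WithBot ℕ∞) = Order.coheight z := by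
  obtain ⟨_, ⟨W, hW, rfl⟩, hxW, -⟩ := X.isBasis_affineOpens.exists_subset_of_mem_open (Set.mem_univ x) isOpen_univ
  have hz : z ∈ W := h.mem_open W.2 hxW
  letI := TopCat.Presheaf.algebra_section_stalk X.presheaf (⟨x, hxW⟩ : W)
  haveI := hW.isLocalization_stalk ⟨x, hxW⟩
  letI algz := TopCat.Presheaf.algebra_section_stalk X.presheaf (⟨z, hz⟩ : W)
  haveI := hW.isLocalization_stalk ⟨z, hz⟩
  have e : (qOf h).under Γ(X, W) = (maximalIdeal (X.presheaf.stalk z)).under Γ(X, W) := by
    ext s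
    show spec h (X.presheaf.germ W x hxW s) ∈ maximalIdeal _ ↔ X.presheaf.germ W z hz s ∈ maximalIdeal _
    rw [spec_germ]
  rw [← IsLocalization.height_under (hW.primeIdealOf ⟨x, hxW⟩).asIdeal.primeCompl (qOf h), e,
    IsLocalization.height_under (hW.primeIdealOf ⟨z, hz⟩).asIdeal.primeCompl, maximalIdeal_height_eq_ringKrullDim,
    ringKrullDim_stalk_eq_coheight]

theorem exists_qOf_eq {x : X} (q : Ideal (X.presheaf.stalk x)) [hq : q.IsPrime] :
    ∃ (z : X) (h : z ⤳ x), qOf h = q := by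
  obtain ⟨_, ⟨W, hW, rfl⟩, hxW, -⟩ := X.isBasis_affineOpens.exists_subset_of_mem_open (Set.mem_univ x) isOpen_univ
  letI := TopCat.Presheaf.algebra_section_stalk X.presheaf (⟨x, hxW⟩ : W)
  haveI := hW.isLocalization_stalk ⟨x, hxW⟩
  set P := hW.primeIdealOf ⟨x, hxW⟩
  have hle : q.comap (algebraMap Γ(X, W) (X.presheaf.stalk x)) ≤ P.asIdeal := fun a ha => by
    by_contra haP
    exact hq.ne_top (q.eq_top_of_isUnit_mem ha (IsLocalization.map_units _ (⟨a, haP⟩ : P.asIdeal.primeCompl)))
  let q' : PrimeSpectrum Γ(X, W) := ⟨q.comap (algebraMap Γ(X, W) (X.presheaf.stalk x)), Ideal.IsPrime.comap _⟩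
  have hz : hW.fromSpec q' ∈ W := hW.range_fromSpec.le ⟨q', rfl⟩
  have hspec : hW.fromSpec q' ⤳ x := by
    have := ((PrimeSpectrum.le_iff_specializes q' P).1 hle).map hW.fromSpec.continuous
    rwa [show hW.fromSpec P = x from hW.fromSpec_primeIdealOf ⟨x, hxW⟩] at this
  refine ⟨_, hspec, ?_⟩
  letI algz := TopCat.Presheaf.algebra_section_stalk X.presheaf (⟨hW.fromSpec q', hz⟩ : W)
  haveI := hW.isLocalization_stalk ⟨hW.fromSpec q', hz⟩
  have hqz : hW.primeIdealOf ⟨hW.fromSpec q', hz⟩ = q' :=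
    hW.fromSpec.isOpenEmbedding.injective (hW.fromSpec_primeIdealOf ⟨hW.fromSpec q', hz⟩)
  have e : (qOf hspec).comap (algebraMap Γ(X, W) (X.presheaf.stalk x)) = q.comap (algebraMap Γ(X, W) (X.presheaf.stalk x)) := by
    refine Eq.trans ?_ ((IsLocalization.AtPrime.comap_maximalIdeal (X.presheaf.stalk (hW.fromSpec q'))
      (hW.primeIdealOf ⟨hW.fromSpec q', hz⟩).asIdeal).trans (congrArg PrimeSpectrum.asIdeal hqz))
    ext s
    show spec hspec (X.presheaf.germ W x hxW s) ∈ maximalIdeal _ ↔ X.presheaf.germ W (hW.fromSpec q') hz s ∈ maximalIdeal _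
    rw [spec_germ]
  have h1 := congrArg (Ideal.map (algebraMap Γ(X, W) (X.presheaf.stalk x))) e
  rwa [IsLocalization.map_comap P.asIdeal.primeCompl (X.presheaf.stalk x),
    IsLocalization.map_comap P.asIdeal.primeCompl (X.presheaf.stalk x)] at h1

variable [IsLocallyNoetherian X]

theorem isDVR (hX : ∀ x : X, IsIntegrallyClosed (X.presheaf.stalk x)) {x : X} (hx : Order.coheight x = 1) :
    IsDiscreteValuationRing (X.presheaf.stalk x) := by
  haveI := hX x
  have hnf : ¬ IsField (X.presheaf.stalk x) := fun hF => by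
    have h := ringKrullDim_eq_zero_of_isField hF
    rw [ringKrullDim_stalk_eq_coheight, hx] at h
    norm_num at h
  haveI : Ring.KrullDimLE 1 (X.presheaf.stalk x) := krullDimLE_of_coheight_le hx.le
  refine ((IsDiscreteValuationRing.TFAE _ hnf).out 0 3 rfl rfl).2
    ⟨hX x, maximalIdeal _, ⟨?_, inferInstance⟩, fun P hP => ?_⟩
  · exact fun h => hnf (isField_iff_maximalIdeal_eq.2 h)
  · haveI := hP.2
    exact eq_maximalIdeal (((Ring.krullDimLE_one_iff_of_isPrime_bot).1 ‹_›) P hP.1 hP.2)

theorem ord_spec_eq_zero_iff (hX : ∀ x : X, IsIntegrallyClosed (X.presheaf.stalk x)) {z : X} (hz : Order.coheight z = 1)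
    {a : X.presheaf.stalk z} (ha : a ≠ 0) :
    Scheme.ord (algebraMap (X.presheaf.stalk z) X.functionField a) z = 0 ↔ IsUnit a := by
  haveI := isDVR hX hz
  haveI : Ring.KrullDimLE 1 (X.presheaf.stalk z) := krullDimLE_of_coheight_le hz.le
  have ha' : algebraMap (X.presheaf.stalk z) X.functionField a ≠ 0 := fun e =>
    ha (IsFractionRing.injective (X.presheaf.stalk z) X.functionField (e.trans (map_zero _).symm))
  rw [Scheme.ord_eq_iff hz ha', Ring.isUnit_iff_ordFrac_one_of_isDiscreteValuationRing (K := X.functionField)]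
  rfl

theorem ord_nonneg_iff_reg (hX : ∀ x : X, IsIntegrallyClosed (X.presheaf.stalk x)) {x : X} (hx : Order.coheight x = 1)
    {f : X.functionField} (hf : f ≠ 0) : 0 ≤ Scheme.ord f x ↔ Reg x f := by
  haveI := isDVR hX hx
  haveI : Ring.KrullDimLE 1 (X.presheaf.stalk x) := krullDimLE_of_coheight_le hx.le
  have hle : 0 ≤ Scheme.ord f x ↔ 1 ≤ Ring.ordFrac (X.presheaf.stalk x) f := by
    rw [Scheme.le_ord_iff hx hf]
    rfl
  rw [hle]
  constructor
  · intro h
    rcases ValuationRing.isInteger_or_isInteger (X.presheaf.stalk x) f with hi | hi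
    · exact hi
    obtain ⟨b, hb⟩ := hi
    have hb0 : b ≠ 0 := fun h0 => by
      rw [h0, map_zero] at hb
      exact inv_ne_zero hf hb.symm
    have h1 := Ring.ordFrac_ge_one_of_ne_zero (K := X.functionField) hb0
    rw [hb, map_inv₀] at h1
    have h2 : Ring.ordFrac (X.presheaf.stalk x) f = 1 :=
      le_antisymm (by rwa [one_le_inv₀ (zero_lt_iff.2 ((map_ne_zero _).2 hf))] at h1) h
    have h3 : IsUnit b := Ring.isUnit_iff_ordFrac_one_of_isDiscreteValuationRing.2 (by rw [hb, map_inv₀, h2, inv_one])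
    obtain ⟨v, rfl⟩ := h3
    exact ⟨(v⁻¹ : _ˣ), by rw [map_units_inv, hb, inv_inv]⟩
  · rintro ⟨a, ha⟩
    rw [← ha]
    exact Ring.ordFrac_ge_one_of_ne_zero fun h0 => hf (by rw [← ha, h0, map_zero])

/-- Regularity at a point from the orders at its generizations of codimension one. -/
theorem reg_of_ord (hX : ∀ x : X, IsIntegrallyClosed (X.presheaf.stalk x)) {x : X} {f : X.functionField} (hf : f ≠ 0)
    (h : ∀ z : X, z ⤳ x → Order.coheight z = 1 → 0 ≤ Scheme.ord f z) : Reg x f := by
  by_contra hx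
  have hC : IsClosed {y | ¬ Reg y f} := by
    rw [← isOpen_compl_iff, isOpen_iff_forall_mem_open]
    intro y hy
    obtain ⟨U, hyU, hU⟩ := (not_not.1 hy : Reg y f).exists_nhd
    exact ⟨U, fun w hw => not_not.2 (hU w hw), U.2, hyU⟩
  haveI : QuasiSober {y | ¬ Reg y f} := hC.isClosedEmbedding_subtypeVal.quasiSober
  obtain ⟨η, hη⟩ := QuasiSober.sober (isIrreducible_irreducibleComponent (x := (⟨x, hx⟩ : {y | ¬ Reg y f})))
    isClosed_irreducibleComponent
  have hηx : η.1 ⤳ x := (hη.specializes mem_irreducibleComponent).map continuous_subtype_val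
  have hmax : ∀ z : X, z ⤳ η.1 → z ≠ η.1 → Reg z f := by
    intro z hzη hne
    by_contra hz
    refine hne ?_
    have hs : (⟨z, hz⟩ : {y | ¬ Reg y f}) ⤳ η := (Topology.IsInducing.subtypeVal.specializes_iff).1 hzη
    have h1 : irreducibleComponent (⟨x, hx⟩ : {y | ¬ Reg y f}) ⊆ closure {⟨z, hz⟩} := by
      rw [← hη.def]
      exact closure_minimal (Set.singleton_subset_iff.2 (specializes_iff_mem_closure.1 hs)) isClosed_closure
    have h2 := eq_irreducibleComponent (isIrreducible_singleton.closure.2) h1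
    exact (hzη.antisymm ((hη.specializes (h2.le (subset_closure rfl))).map continuous_subtype_val)).eq
  have hd := depth_eq_one f η.2 hmax
  refine η.2 ?_
  by_cases hc : Order.coheight η.1 = 1
  · exact (ord_nonneg_iff_reg hX hc hf).1 (h _ hηx hc)
  haveI := hX η.1
  have h1 : ¬ (2 : WithBot ℕ∞) ≤ ringKrullDim (X.presheaf.stalk η.1) := fun h => by
    have := H1CAlg.depth_ge_two_of_isIntegrallyClosed h
    rw [hd] at this
    norm_num at this
  rw [ringKrullDim_stalk_eq_coheight] at h1
  have h0 : ringKrullDim (X.presheaf.stalk η.1) = 0 := by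
    rw [ringKrullDim_stalk_eq_coheight]
    revert h1 hc
    generalize Order.coheight η.1 = c
    intro hc h1
    have h2 : c < 2 := WithBot.coe_lt_coe.1 (not_le.1 h1)
    obtain rfl : c = 0 := by
      induction c using ENat.recTopCoe with
      | top => simp at h2
      | coe n =>
        have h' : n < 2 := by exact_mod_cast h2
        have h'' : n ≠ 1 := fun e => hc (by rw [e]; rfl)
        exact_mod_cast (show n = 0 by omega)
    rfl
  haveI : Ring.KrullDimLE 0 (X.presheaf.stalk η.1) := Ring.krullDimLE_iff.2 h0.le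
  letI := (Ring.KrullDimLE.isField_of_isDomain : IsField (X.presheaf.stalk η.1)).toField
  obtain ⟨a, b, hb, e⟩ := IsFractionRing.div_surjective (A := X.presheaf.stalk η.1) f
  exact ⟨a / b, by rw [map_div₀]; exact e⟩

end Groth.Agent.H26CDiv
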