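import Groth.Agent.H26CDiv.Basic
import Mathlib.Topology.KrullDimension

/-! Divisors in dimension one. -/

set_option autoImplicit false

universe u

open CategoryTheory AlgebraicGeometry TopologicalSpace

namespace Groth.Agent.H26CDiv

variable {X : Scheme.{u}} [IsIntegral X]

theorem isClosed_singleton_of_ne_genericPoint (hdim : topologicalKrullDim X ≤ 1) {y : X}
    (hy : y ≠ genericPoint X) : IsClosed ({y} : Set X) := by
  rw [← closure_eq_iff_isClosed]
  refine le_antisymm (fun z hz => ?_) subset_closure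
  by_contra hzy
  have hyz : y ⤳ z := specializes_iff_mem_closure.2 hz
  let A : IrreducibleCloseds X := ⟨closure {z}, isIrreducible_singleton.closure, isClosed_closure⟩
  let B : IrreducibleCloseds X := ⟨closure {y}, isIrreducible_singleton.closure, isClosed_closure⟩
  let T : IrreducibleCloseds X := ⟨closure {genericPoint X}, isIrreducible_singleton.closure, isClosed_closure⟩
  have hAB : A < B := by
    refine lt_of_le_of_ne (show closure {z} ⊆ closure {y} from closure_minimal (Set.singleton_subset_iff.2 hz) isClosed_closure) fun e => hzy ?_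
    have : z ⤳ y := specializes_iff_mem_closure.2 ((congrArg (fun S : IrreducibleCloseds X => (y ∈ (S : Set X))) e).mpr (subset_closure rfl))
    exact (this.antisymm hyz).eq
  have hBT : B < T := by
    refine lt_of_le_of_ne (show closure {y} ⊆ closure {genericPoint X} from by rw [(genericPoint_spec X).def]; exact Set.subset_univ _) fun e => hy ?_
    have : y ⤳ genericPoint X := specializes_iff_mem_closure.2
      ((congrArg (fun S : IrreducibleCloseds X => (genericPoint X ∈ (S : Set X))) e).mpr (subset_closure rfl))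
    exact (this.antisymm ((genericPoint_spec X).specializes trivial)).eq
  let s : LTSeries (IrreducibleCloseds X) := ((RelSeries.singleton _ A).snoc B (by simpa using hAB)).snoc T (by simpa using hBT)
  have h2 := (Order.LTSeries.length_le_krullDim s).trans hdim
  simp only [s, RelSeries.snoc_length, RelSeries.singleton_length] at h2
  norm_cast at h2

variable [IsLocallyNoetherian X]

theorem finite_inter_affine (hdim : topologicalKrullDim X ≤ 1) {C : Set X} (hC : IsClosed C)
    (hη : genericPoint X ∉ C) {W : X.Opens} (hW : IsAffineOpen W) : (C ∩ W).Finite := by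
  haveI : IsNoetherianRing Γ(X, W) := IsLocallyNoetherian.component_noetherian ⟨W, hW⟩
  haveI : NoetherianSpace (W : Set X) := noetherianSpace_of_isAffineOpen W hW
  haveI : QuasiSober (W : Set X) := inferInstanceAs (QuasiSober ↥(W : Scheme.{u}))
  obtain ⟨S, hSf, hSc, hSi, hS⟩ := NoetherianSpace.exists_finite_set_isClosed_irreducible (α := (W : Set X))
    (hC.preimage (continuous_subtype_val (p := (· ∈ (W : Set X)))))
  have hsub : ∀ t ∈ S, (Subtype.val '' t : Set X).Subsingleton := by
    intro t ht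
    obtain ⟨η, hη'⟩ := QuasiSober.sober (hSi t ht) (hSc t ht)
    have hηC : η.1 ∈ C := hS.ge (Set.mem_sUnion.2 ⟨t, ht, hη'.mem⟩)
    have hcl : IsClosed ({η.1} : Set X) := isClosed_singleton_of_ne_genericPoint hdim fun e => hη (e ▸ hηC)
    rintro _ ⟨a, ha, rfl⟩ _ ⟨b, hb, rfl⟩
    have key : ∀ c ∈ t, c.1 = η.1 := fun c hc => ((hη'.specializes hc).map continuous_subtype_val).mem_closed hcl rfl
    rw [key a ha, key b hb]
  refine Set.Finite.subset (hSf.biUnion fun t ht => (hsub t ht).finite) fun x hx => ?_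
  obtain ⟨t, ht, hxt⟩ := Set.mem_sUnion.1 (hS.le (show (⟨x, hx.2⟩ : (W : Set X)) ∈ Subtype.val ⁻¹' C from hx.1))
  exact Set.mem_iUnion₂.2 ⟨t, ht, ⟨x, hx.2⟩, hxt, rfl⟩

/-- Around any point, a closed set missing the generic point can be avoided. -/
theorem exists_nhd_avoid (hdim : topologicalKrullDim X ≤ 1) {C : Set X} (hC : IsClosed C)
    (hη : genericPoint X ∉ C) (x : X) : ∃ U : X.Opens, x ∈ U ∧ ∀ y ∈ U, y ∈ C → y = x := by
  obtain ⟨_, ⟨W, hW, rfl⟩, hxW, -⟩ := X.isBasis_affineOpens.exists_subset_of_mem_open (Set.mem_univ x) isOpen_univ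
  have hf := (finite_inter_affine hdim hC hη hW).subset (Set.sdiff_subset (t := {x}))
  have hcl : IsClosed ((C ∩ W) \ {x}) := by
    rw [← Set.biUnion_of_singleton ((C ∩ (W : Set X)) \ {x})]
    exact hf.isClosed_biUnion fun y hy => isClosed_singleton_of_ne_genericPoint hdim fun e => hη (e ▸ hy.1.1)
  refine ⟨⟨(W : Set X) \ ((C ∩ W) \ {x}), W.2.sdiff hcl⟩, ⟨hxW, fun h => h.2 rfl⟩, fun y hy hyC => ?_⟩
  by_contra hne
  exact hy.2 ⟨⟨hyC, hy.1⟩, hne⟩

theorem discreteTopology_of_closed (hdim : topologicalKrullDim X ≤ 1) {C : Set X} (hC : IsClosed C)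
    (hη : genericPoint X ∉ C) : DiscreteTopology C := by
  refine discreteTopology_iff_isOpen_singleton.2 fun x => ?_
  obtain ⟨U, hxU, hU⟩ := exists_nhd_avoid hdim hC hη x.1
  have : ({x} : Set C) = Subtype.val ⁻¹' (U : Set X) :=
    Set.ext fun y => ⟨fun e => (show y.1 ∈ (U : Set X) by rw [Set.mem_singleton_iff.1 e]; exact hxU),
      fun hy => Subtype.ext (hU y hy y.2)⟩
  rw [this]
  exact U.2.preimage continuous_subtype_val

open Classical in
theorem exists_divisor (hdim : topologicalKrullDim X ≤ 1) (E : Set X) (hE : IsClosed E) (hEd : DiscreteTopology E)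
    (d : ∀ x : X, CDiv.Germ X x) :
    ∃ D : CDiv.Divisor X, ∀ x : X, D.1 x = if x ∈ E then d x else 1 := by
  refine ⟨⟨fun x => if x ∈ E then d x else 1, fun x => ?_⟩, fun x => rfl⟩
  by_cases hx : x ∈ E
  · haveI := hEd
    obtain ⟨V, hV, hVE⟩ := isOpen_induced_iff.1 (isOpen_discrete ({⟨x, hx⟩} : Set E))
    obtain ⟨f, hf⟩ := QuotientGroup.mk_surjective (d x)
    have hfs : CDiv.supp (CDiv.div f) = {y | CDiv.germOf X y f ≠ 1} := rfl
    obtain ⟨U, hxU, hU⟩ := exists_nhd_avoid hdim (isClosed_supp (CDiv.div f))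
      (genericPoint_not_mem_supp (CDiv.div f)) x
    refine ⟨⟨V, hV⟩ ⊓ U, f, ⟨hVE.ge rfl, hxU⟩, fun y hy => ?_⟩
    by_cases hyx : y = x
    · subst hyx
      show (if y ∈ E then d y else 1) = _
      rw [if_pos hx]; exact hf.symm
    · have hyE : y ∉ E := fun h => hyx (congrArg Subtype.val (Set.mem_singleton_iff.1 (hVE.le (show (⟨y, h⟩ : E) ∈ Subtype.val ⁻¹' V from hy.1))))
      show (if y ∈ E then d y else 1) = _
      rw [if_neg hyE]
      by_contra hne
      exact hyx (hU y hy.2 fun e => hne e.symm)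
  · exact ⟨⟨Eᶜ, hE.isOpen_compl⟩, 1, hx, fun y hy => by
      show (if y ∈ E then d y else 1) = _
      rw [if_neg hy]; exact (QuotientGroup.mk_one _).symm⟩

end Groth.Agent.H26CDiv
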