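import Groth.Prelude.Def_CDiv
import Mathlib.AlgebraicGeometry.Noetherian
import Mathlib.RingTheory.Ideal.MinimalPrime.Basic

/-! Divisors on integral schemes. -/

set_option autoImplicit false

universe u

open CategoryTheory AlgebraicGeometry TopologicalSpace

namespace Groth.Agent.H26CDiv

variable {X : Scheme.{u}} [IsIntegral X]

/-- `f` is regular at `x`. -/
def Reg (x : X) (f : X.functionField) : Prop := ∃ a : X.presheaf.stalk x, algebraMap _ X.functionField a = f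

theorem Reg.exists_nhd {x : X} {f : X.functionField} (h : Reg x f) :
    ∃ U : X.Opens, x ∈ U ∧ ∀ y ∈ U, Reg y f := by
  obtain ⟨a, rfl⟩ := h
  obtain ⟨U, hx, s, rfl⟩ := X.presheaf.exists_germ_eq a
  haveI : Nonempty U := ⟨⟨x, hx⟩⟩
  exact ⟨U, hx, fun y hy => ⟨X.presheaf.germ U y hy s, by
    rw [Scheme.algebraMap_germ_eq_germToFunctionField _ hy, Scheme.algebraMap_germ_eq_germToFunctionField _ hx]⟩⟩

theorem germOf_eq_one_iff {x : X} {f : CDiv.KUnits X} :
    CDiv.germOf X x f = 1 ↔ Reg x (f : X.functionField) ∧ Reg x ((f⁻¹ : CDiv.KUnits X) : X.functionField) := by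
  rw [CDiv.germOf, QuotientGroup.eq_one_iff]
  constructor
  · rintro ⟨a, rfl⟩
    exact ⟨⟨a, rfl⟩, ⟨(a⁻¹ : _ˣ), by rw [← map_inv]; rfl⟩⟩
  · rintro ⟨⟨a, ha⟩, ⟨b, hb⟩⟩
    have hab : a * b = 1 := by
      refine IsFractionRing.injective (X.presheaf.stalk x) X.functionField ?_
      rw [map_mul, ha, hb, map_one, Units.mul_inv]
    exact ⟨Units.mkOfMulEqOne a b hab, Units.ext ha⟩

theorem isEffectiveAt_iff {D : CDiv.Divisor X} {x : X} {f : CDiv.KUnits X} (h : D.1 x = CDiv.germOf X x f) :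
    CDiv.IsEffectiveAt D x ↔ Reg x (f : X.functionField) := by
  constructor
  · rintro ⟨a, ha, e⟩
    obtain ⟨u, hu⟩ := QuotientGroup.eq.1 (e.symm.trans h)
    refine ⟨a * u.1, ?_⟩
    rw [map_mul]
    have := congrArg (fun w : CDiv.KUnits X => (Units.mk0 _ ha * w : CDiv.KUnits X)) hu
    simp only [mul_inv_cancel_left] at this
    exact congrArg Units.val this
  · rintro ⟨a, ha⟩
    have ha0 : algebraMap (X.presheaf.stalk x) X.functionField a ≠ 0 := by rw [ha]; exact f.ne_zero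
    exact ⟨a, ha0, h.trans (congrArg _ (Units.ext ha.symm))⟩

theorem exists_rep (D : CDiv.Divisor X) (x : X) :
    ∃ (U : X.Opens) (f : CDiv.KUnits X), x ∈ U ∧ ∀ y ∈ U, D.1 y = CDiv.germOf X y f := D.2 x

theorem isClosed_supp (D : CDiv.Divisor X) : IsClosed (CDiv.supp D) := by
  rw [← isOpen_compl_iff, isOpen_iff_forall_mem_open]
  intro x hx
  obtain ⟨U, f, hxU, hU⟩ := exists_rep D x
  have h1 : CDiv.germOf X x f = 1 := by rw [← hU x hxU]; exact not_not.1 hx
  obtain ⟨r, r'⟩ := germOf_eq_one_iff.1 h1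
  obtain ⟨V, hxV, hV⟩ := r.exists_nhd
  obtain ⟨W, hxW, hW⟩ := r'.exists_nhd
  exact ⟨(U ⊓ V ⊓ W : X.Opens), fun y hy => not_not.2 ((hU y hy.1.1).trans
    (germOf_eq_one_iff.2 ⟨hV y hy.1.2, hW y hy.2⟩)), (U ⊓ V ⊓ W).2, ⟨⟨hxU, hxV⟩, hxW⟩⟩

theorem isClosed_not_effective (D : CDiv.Divisor X) : IsClosed {x | ¬ CDiv.IsEffectiveAt D x} := by
  rw [← isOpen_compl_iff, isOpen_iff_forall_mem_open]
  intro x hx
  obtain ⟨U, f, hxU, hU⟩ := exists_rep D x
  obtain ⟨V, hxV, hV⟩ := ((isEffectiveAt_iff (hU x hxU)).1 (not_not.1 hx)).exists_nhd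
  exact ⟨(U ⊓ V : X.Opens), fun y hy => not_not.2 ((isEffectiveAt_iff (hU y hy.1)).2 (hV y hy.2)), (U ⊓ V).2, hxU, hxV⟩

theorem reg_genericPoint (f : X.functionField) : Reg (genericPoint X) f :=
  ⟨f, by rw [RingHom.algebraMap_toAlgebra, TopCat.Presheaf.stalkSpecializes_refl]; rfl⟩

theorem genericPoint_not_mem_supp (D : CDiv.Divisor X) : genericPoint X ∉ CDiv.supp D := fun h => by
  obtain ⟨U, f, hU, e⟩ := exists_rep D (genericPoint X)
  exact h ((e _ hU).trans (germOf_eq_one_iff.2 ⟨reg_genericPoint _, reg_genericPoint _⟩))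

/-- A function that is regular at all proper generizations of `x` has a denominator ideal with radical the maximal ideal. -/
theorem le_radical_of_reg_generizations {x : X} (f : X.functionField) (I : Ideal (X.presheaf.stalk x))
    (hI : ∀ s, s ∈ I ↔ Reg x (algebraMap (X.presheaf.stalk x) X.functionField s * f))
    (h : ∀ z : X, z ⤳ x → z ≠ x → Reg z f) :
    IsLocalRing.maximalIdeal (X.presheaf.stalk x) ≤ I.radical := by
  obtain ⟨_, ⟨W, hW, rfl⟩, hxW, -⟩ := X.isBasis_affineOpens.exists_subset_of_mem_open (Set.mem_univ x) isOpen_univ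
  haveI : Nonempty W := ⟨⟨x, hxW⟩⟩
  letI := TopCat.Presheaf.algebra_section_stalk X.presheaf (⟨x, hxW⟩ : W)
  haveI := hW.isLocalization_stalk ⟨x, hxW⟩
  set P := hW.primeIdealOf ⟨x, hxW⟩
  rw [Ideal.radical_eq_sInf]
  refine le_sInf fun p ⟨hIp, hp⟩ => ?_
  by_contra hne
  have hpP : p.comap (algebraMap Γ(X, W) (X.presheaf.stalk x)) ≠ P.asIdeal := by
    intro e
    refine hne ?_
    have h1 := congrArg (Ideal.map (algebraMap Γ(X, W) (X.presheaf.stalk x))) e
    rw [IsLocalization.map_comap P.asIdeal.primeCompl (X.presheaf.stalk x) p,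
      IsLocalization.AtPrime.map_eq_maximalIdeal P.asIdeal (X.presheaf.stalk x)] at h1
    exact h1.ge
  have hle : p.comap (algebraMap Γ(X, W) (X.presheaf.stalk x)) ≤ P.asIdeal := by
    intro a ha
    by_contra haP
    exact hp.ne_top (p.eq_top_of_isUnit_mem ha (IsLocalization.map_units _ (⟨a, haP⟩ : P.asIdeal.primeCompl)))
  let q : PrimeSpectrum Γ(X, W) := ⟨p.comap (algebraMap Γ(X, W) (X.presheaf.stalk x)), Ideal.IsPrime.comap _⟩
  have hz : hW.fromSpec q ∈ W := hW.range_fromSpec.le ⟨q, rfl⟩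
  have hqz : hW.primeIdealOf ⟨hW.fromSpec q, hz⟩ = q :=
    hW.fromSpec.isOpenEmbedding.injective (hW.fromSpec_primeIdealOf ⟨hW.fromSpec q, hz⟩)
  have hspec : hW.fromSpec q ⤳ x := by
    have := ((PrimeSpectrum.le_iff_specializes q P).1 hle).map hW.fromSpec.continuous
    rwa [show hW.fromSpec P = x from hW.fromSpec_primeIdealOf ⟨x, hxW⟩] at this
  have hzx : hW.fromSpec q ≠ x := fun e => hpP (congrArg PrimeSpectrum.asIdeal
    (hW.fromSpec.isOpenEmbedding.injective (e.trans (hW.fromSpec_primeIdealOf ⟨x, hxW⟩).symm) : q = P))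
  obtain ⟨c, hc⟩ := h _ hspec hzx
  letI := TopCat.Presheaf.algebra_section_stalk X.presheaf (⟨hW.fromSpec q, hz⟩ : W)
  haveI := hW.isLocalization_stalk ⟨hW.fromSpec q, hz⟩
  obtain ⟨⟨c₀, d⟩, hcd⟩ := IsLocalization.surj (hW.primeIdealOf ⟨hW.fromSpec q, hz⟩).asIdeal.primeCompl c
  have hd : d.1 ∉ q.asIdeal := fun hd => d.2 ((congrArg (fun r : PrimeSpectrum Γ(X, W) => d.1 ∈ r.asIdeal) hqz).mpr hd)
  refine hd (hIp ((hI _).2 ⟨X.presheaf.germ W x hxW c₀, ?_⟩))
  have h2 := congrArg (algebraMap (X.presheaf.stalk (hW.fromSpec q)) X.functionField) hcd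
  rw [map_mul, hc] at h2
  show algebraMap _ X.functionField (X.presheaf.germ W x hxW c₀) =
    algebraMap _ X.functionField (X.presheaf.germ W x hxW d.1) * f
  rw [Scheme.algebraMap_germ_eq_germToFunctionField _ hxW, Scheme.algebraMap_germ_eq_germToFunctionField _ hxW,
    mul_comm]
  refine Eq.trans ?_ (Eq.trans h2.symm ?_)
  · exact (Scheme.algebraMap_germ_eq_germToFunctionField _ hz c₀).symm
  · exact congrArg (f * ·) (Scheme.algebraMap_germ_eq_germToFunctionField _ hz d.1)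

end Groth.Agent.H26CDiv
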