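import Groth.Agent.H26CDiv.Basic
import Groth.Agent.H4Depth.LocDepth

/-! Points of depth one. -/

set_option autoImplicit false

universe u

open CategoryTheory AlgebraicGeometry TopologicalSpace IsLocalRing

namespace Groth.Agent.H26CDiv

variable {X : Scheme.{u}} [IsIntegral X] [IsLocallyNoetherian X]

theorem depth_eq_one {x : X} (f : X.functionField) (hf : ¬ Reg x f) (h : ∀ z : X, z ⤳ x → z ≠ x → Reg z f) :
    LocCoh.depth (X.presheaf.stalk x) (X.presheaf.stalk x) = 1 := by
  obtain ⟨a, b, hb, rfl⟩ := IsFractionRing.div_surjective (A := X.presheaf.stalk x) f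
  have hb0 : (b : X.presheaf.stalk x) ≠ 0 := nonZeroDivisors.ne_zero hb
  have hbK : algebraMap (X.presheaf.stalk x) X.functionField b ≠ 0 := fun e =>
    hb0 (IsFractionRing.injective (X.presheaf.stalk x) X.functionField (e.trans (map_zero _).symm))
  let I : Ideal (X.presheaf.stalk x) := Submodule.colon (Ideal.span {b}) {a}
  have hI : ∀ s, s ∈ I ↔ Reg x (algebraMap (X.presheaf.stalk x) X.functionField s *
      (algebraMap _ X.functionField a / algebraMap _ X.functionField b)) := by
    intro s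
    rw [Submodule.mem_colon_singleton, smul_eq_mul, Ideal.mem_span_singleton]
    constructor
    · rintro ⟨c, hc⟩
      exact ⟨c, by rw [← mul_div_assoc, ← map_mul, hc, map_mul, mul_div_cancel_left₀ _ hbK]⟩
    · rintro ⟨c, hc⟩
      refine ⟨c, IsFractionRing.injective (X.presheaf.stalk x) X.functionField ?_⟩
      rw [map_mul, map_mul, hc]
      field_simp
  have hrad := le_radical_of_reg_generizations _ I hI h
  have hbm : b ∈ maximalIdeal (X.presheaf.stalk x) := by
    rw [IsLocalRing.mem_maximalIdeal]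
    intro hu
    obtain ⟨v, rfl⟩ := hu
    refine hf ⟨a * ↑v⁻¹, ?_⟩
    rw [map_mul, map_units_inv, div_eq_mul_inv]
  have hreg : IsSMulRegular (X.presheaf.stalk x) b := fun c d e => mul_left_cancel₀ hb0 e
  have hne : (Submodule.Quotient.mk a : QuotSMulTop b (X.presheaf.stalk x)) ≠ 0 := by
    rw [Ne, Submodule.Quotient.mk_eq_zero]
    rintro ⟨c, -, hc⟩
    refine hf ⟨c, ?_⟩
    rw [← hc]
    show _ = algebraMap _ X.functionField (b * c) / _
    rw [map_mul, mul_div_cancel_left₀ _ hbK]
  obtain ⟨q, hq, hle⟩ := exists_le_isAssociatedPrime_of_isNoetherianRing (X.presheaf.stalk x) _ hne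
  have hqI : I ≤ q := fun s hs => hle (by
    rw [Submodule.mem_colon_singleton, smul_eq_mul, Ideal.mem_span_singleton] at hs
    obtain ⟨c, hc⟩ := hs
    rw [Submodule.mem_colon_singleton, Submodule.mem_bot, ← Submodule.Quotient.mk_smul, Submodule.Quotient.mk_eq_zero]
    exact ⟨c, trivial, hc.symm⟩)
  haveI : Nontrivial (QuotSMulTop b (X.presheaf.stalk x)) := ⟨⟨_, _, hne⟩⟩
  have h0 : LocCoh.idealDepth (maximalIdeal (X.presheaf.stalk x)) (QuotSMulTop b (X.presheaf.stalk x)) = 0 :=
    (H4Depth.idealDepth_eq_zero_iff_exists_associatedPrime H4Depth.maximalIdeal_smul_top_ne_top).2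
      ⟨q, hq, hrad.trans (hq.isPrime.radical_le_iff.2 hqI)⟩
  rw [LocCoh.depth, ← H4Depth.idealDepth_quotSMulTop_add_one hbm hreg, h0, zero_add]

/-- A point of a nonempty closed set with no proper generization in it. -/
theorem exists_maximal_point {Y : Scheme.{u}} {C : Set Y} (hC : IsClosed C) (hne : C.Nonempty) :
    ∃ x ∈ C, ∀ z ∈ C, z ⤳ x → z = x := by
  haveI : QuasiSober C := hC.isClosedEmbedding_subtypeVal.quasiSober
  obtain ⟨c, hc⟩ := hne
  have hirr := isIrreducible_irreducibleComponent (x := (⟨c, hc⟩ : C))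
  obtain ⟨η, hη⟩ := QuasiSober.sober hirr isClosed_irreducibleComponent
  refine ⟨η.1, η.2, fun z hz hzη => ?_⟩
  have hs : (⟨z, hz⟩ : C) ⤳ η := (Topology.IsInducing.subtypeVal.specializes_iff).1 hzη
  have h1 : irreducibleComponent (⟨c, hc⟩ : C) ⊆ closure {(⟨z, hz⟩ : C)} := by
    rw [← hη.def]
    exact closure_minimal (Set.singleton_subset_iff.2 (specializes_iff_mem_closure.1 hs)) isClosed_closure
  have h2 := eq_irreducibleComponent (isIrreducible_singleton.closure.2) h1
  have hη2 : η ⤳ (⟨z, hz⟩ : C) := hη.specializes (h2.le (subset_closure rfl))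
  exact (hzη.antisymm (hη2.map continuous_subtype_val)).eq

theorem isEffective_of_depth_one (D : CDiv.Divisor X)
    (h : ∀ x : X, LocCoh.depth (X.presheaf.stalk x) (X.presheaf.stalk x) = 1 → CDiv.IsEffectiveAt D x) :
    CDiv.IsEffective D := by
  by_contra hD
  obtain ⟨x₀, hx₀⟩ := not_forall.1 hD
  obtain ⟨x, hx, hmax⟩ := exists_maximal_point (isClosed_not_effective D) ⟨x₀, hx₀⟩
  obtain ⟨U, f, hxU, hU⟩ := exists_rep D x
  refine hx (h x (depth_eq_one (f : X.functionField) (fun r => hx ((isEffectiveAt_iff (hU x hxU)).2 r)) fun z hz hzx => ?_))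
  refine (isEffectiveAt_iff (hU z (hz.mem_open U.2 hxU))).1 ?_
  by_contra hzD
  exact hzx (hmax z hzD hz)

end Groth.Agent.H26CDiv
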